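import Cfsg.Agent.H405.EPS.SuzRep
import Cfsg.Agent.H775.EPS.SuzMain

/-!
# S3499-V: socle `Suz` (helper405), task 6086
-/

set_option autoImplicit false

namespace Cfsg.Agent.H405.EPS

open Cfsg Cfsg.Geo Cfsg.Agent.H284 Cfsg.Agent.H419.EP Cfsg.Spor Cfsg.Agent.H775.EPS Cfsg.Agent.H59.EP

/-- **The Suzuki group is not the socle of a residual subgroup in dimension at least 13** (hypotheses as in
`H775.EPS.index_le_core`). -/
theorem suz (hI : InvGen.{0} 448345497600 250000) (hg : TwoGen.{0})
    (hev : ∀ (X : Type) [Group X] [Finite X], IsSimpleGroup X → ¬ Group.IsSolvable X → 2 ∣ Nat.card X) :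
    BigOf (fun L _ => IsoSuz L) := by
  intro Q _ _ A Γ ι _ _ F _ _ S P b h
  have hidx := index_le_core b.simple b.ept h b.hasSoc hI hg hev
  have hfin : Finite (socle P) := finite_suz_iso h
  have hAL : Nat.card A ≤ 896690995200 :=
    b.hasSoc.card_le.trans (Nat.le_of_dvd (by norm_num) (aut_suz h))
  refine suz_of_card b h ?_
  rw [← A.card_mul_index]
  calc Nat.card A * A.index ≤ 896690995200 * 2 ^ 82 := Nat.mul_le_mul hAL hidx
    _ < 2 ^ 153 := by norm_num

end Cfsg.Agent.H405.EPS
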