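import Cfsg.Agent.H405.EPS.Suz
import Cfsg.Agent.H775.EPS.SuzFin

/-!
# S3499-V: socle `Suz` (helper405), without hypotheses
-/

set_option autoImplicit false

namespace Cfsg.Agent.H405.EPS

open Cfsg.Agent.H419.EP Cfsg.Spor

/-- **The Suzuki group is not the socle of a residual subgroup in dimension at least 13.** -/
theorem suz_fin : BigOf (fun L _ => IsoSuz L) :=
  suz Cfsg.Agent.H775.EPS.invGen_all Cfsg.Agent.H775.EPS.twoGen_all Cfsg.Agent.H775.EPS.even_of_simple

end Cfsg.Agent.H405.EPS
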